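import Mathlib
import Groth.Agent.RegLocal.Basic
import Groth.Agent.AdicDerLib.Basic

/-! The Jacobian criterion with derivations in a regular local ring. -/

set_option autoImplicit false
universe u

namespace Groth.Agent.RegLocalDer

open IsLocalRing

variable {R : Type u} [CommRing R] [IsRegularLocalRing R]

theorem linearIndependent_of_det {m : ℕ} (f : Fin m → R) (hf : ∀ i, f i ∈ maximalIdeal R)
    (D : Fin m → Derivation ℤ R R)
    (hdet : IsUnit (Matrix.det (Matrix.of (fun i j : Fin m => D i (f j))))) :
    LinearIndependent (ResidueField R) (fun i => (maximalIdeal R).toCotangent ⟨f i, hf i⟩) := by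
  rw [Fintype.linearIndependent_iff]
  intro g hg
  choose c hc using fun i => Ideal.Quotient.mk_surjective (g i)
  have hg' : (maximalIdeal R).toCotangent (∑ i, c i • (⟨f i, hf i⟩ : maximalIdeal R)) = 0 := by
    rw [map_sum, ← hg]
    refine Finset.sum_congr rfl fun i _ => ?_
    rw [← hc i, map_smul]
    rfl
  rw [Ideal.toCotangent_eq_zero] at hg'
  simp only [Submodule.coe_sum, Submodule.coe_smul, smul_eq_mul] at hg'
  let M : Matrix (Fin m) (Fin m) R := Matrix.of fun i j => D i (f j)
  have hM : ∀ i, (M.mulVec c) i ∈ maximalIdeal R := by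
    intro i
    have h1 := AdicDerLib.apply_mem_pow (maximalIdeal R) (D i) 1 _ hg'
    rw [pow_one, map_sum] at h1
    have h2 : ∑ j, D i (c j * f j) = (M.mulVec c) i + ∑ j, f j * D i (c j) := by
      rw [Matrix.mulVec, dotProduct, ← Finset.sum_add_distrib]
      refine Finset.sum_congr rfl fun j _ => ?_
      rw [Derivation.leibniz]
      simp [M, mul_comm]
    rw [h2] at h1
    exact (Ideal.add_mem_iff_left _ (Ideal.sum_mem _ fun j _ => Ideal.mul_mem_right _ _ (hf j))).mp h1
  have hMu : IsUnit M := (Matrix.isUnit_iff_isUnit_det M).mpr hdet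
  obtain ⟨u, hu⟩ := hMu
  intro i
  rw [← hc i]
  refine Ideal.Quotient.eq_zero_iff_mem.mpr ?_
  have : c = (↑u⁻¹ : Matrix (Fin m) (Fin m) R).mulVec (M.mulVec c) := by
    rw [Matrix.mulVec_mulVec, ← hu, Units.inv_mul, Matrix.one_mulVec]
  rw [this, Matrix.mulVec, dotProduct]
  exact Ideal.sum_mem _ fun j _ => Ideal.mul_mem_left _ _ (hM j)

theorem exists_append_generators {m : ℕ} (f : Fin m → R) (hf : ∀ i, f i ∈ maximalIdeal R)
    (hli : LinearIndependent (ResidueField R) (fun i => (maximalIdeal R).toCotangent ⟨f i, hf i⟩)) :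
    ∃ (r : ℕ) (g : Fin r → R), ringKrullDim R = ((m + r : ℕ) : WithBot ℕ∞) ∧
      Ideal.span (Set.range (Fin.append f g)) = maximalIdeal R := by
  classical
  obtain ⟨W, hW⟩ := Submodule.exists_isCompl
    (Submodule.span (ResidueField R) (Set.range fun i => (maximalIdeal R).toCotangent ⟨f i, hf i⟩))
  let b := Module.finBasis (ResidueField R) W
  choose w hw using fun k => Ideal.toCotangent_surjective (maximalIdeal R) (b k : CotangentSpace R)
  refine ⟨Module.finrank (ResidueField R) W, fun k => (w k : R), ?_, ?_⟩
  · have h1 := Submodule.finrank_add_eq_of_isCompl hW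
    rw [finrank_span_eq_card hli, Fintype.card_fin] at h1
    rw [← (IsRegularLocalRing.iff_finrank_cotangentSpace R).mp ‹_›, ← h1]
  · let gg : Fin (m + Module.finrank (ResidueField R) W) → maximalIdeal R :=
      Fin.append (fun i => ⟨f i, hf i⟩) w
    have hval : (fun i => (gg i : R)) = Fin.append f (fun k => (w k : R)) := by
      funext i
      refine Fin.addCases (fun j => ?_) (fun j => ?_) i <;> simp [gg]
    have htop : Submodule.span (ResidueField R) ((maximalIdeal R).toCotangent '' Set.range gg) = ⊤ := by
      refine eq_top_iff.mpr ?_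
      rw [← hW.sup_eq_top]
      refine sup_le (Submodule.span_mono ?_) ?_
      · rintro _ ⟨i, rfl⟩
        exact ⟨gg (Fin.castAdd _ i), ⟨_, rfl⟩, by simp [gg]⟩
      · have hb : W = Submodule.span (ResidueField R) (Set.range fun k => (b k : CotangentSpace R)) := by
          have := congrArg (Submodule.map W.subtype) b.span_eq
          rw [Submodule.map_span, ← Set.range_comp, Submodule.map_subtype_top] at this
          exact this.symm
        refine hb.le.trans (Submodule.span_mono ?_)
        rintro _ ⟨k, rfl⟩
        exact ⟨gg (Fin.natAdd _ k), ⟨_, rfl⟩, by simp [gg, hw]⟩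
    have h2 := congrArg (Submodule.map (maximalIdeal R).subtype)
      (CotangentSpace.span_image_eq_top_iff.mp htop)
    rw [Submodule.map_span, ← Set.range_comp, Submodule.map_subtype_top] at h2
    rw [← hval]
    exact h2

theorem quot_isRegular {m : ℕ} (f : Fin m → R) (hf : ∀ i, f i ∈ maximalIdeal R)
    (hli : LinearIndependent (ResidueField R) (fun i => (maximalIdeal R).toCotangent ⟨f i, hf i⟩)) :
    IsRegularLocalRing (R ⧸ Ideal.span (Set.range f)) ∧
      RingTheory.Sequence.IsRegular R (List.ofFn f) := by
  classical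
  obtain ⟨r, g, hd, hspan⟩ := exists_append_generators f hf hli
  constructor
  · have h := (RegLocal.quot_span_image hd (Fin.append f g) hspan
      (Finset.univ.image (Fin.castAdd r))).1
    have he : Fin.append f g '' (↑(Finset.univ.image (Fin.castAdd (n := m) r))) = Set.range f := by
      ext x; simp
    rw [he] at h
    exact h
  · have h := RegLocal.isRegular_of_generators R hd (Fin.append f g) hspan
    rw [List.ofFn_fin_append] at h
    refine ⟨((RingTheory.Sequence.isWeaklyRegular_append_iff _ _ _).mp h.1).1, ?_⟩
    intro htop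
    have : (⊤ : Submodule R R) ≤ maximalIdeal R := by
      rw [htop, smul_eq_mul, Ideal.mul_top]
      refine Ideal.span_le.mpr ?_
      intro x hx
      obtain ⟨i, rfl⟩ := (List.mem_ofFn' f x).mp hx
      exact hf i
    exact (maximalIdeal.isMaximal R).ne_top (top_le_iff.mp this)

/-- A regular ring modulo an element with a derivative invertible along its zero locus is regular. -/
theorem isRegularRing_quot {k : Type*} [CommRing k] (A : Type u) [CommRing A] [Algebra k A] [IsRegularRing A] (f : A)
    (D : Derivation k A A)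
    (hD : ∀ (p : Ideal A), p.IsPrime → f ∈ p → D f ∉ p) :
    IsRegularRing (A ⧸ Ideal.span ({f} : Set A)) := by
  set I := Ideal.span ({f} : Set A) with hI
  refine isRegularRing_iff.2 fun P hP => ?_
  haveI := hP
  let p := P.comap (Ideal.Quotient.mk I)
  haveI : p.IsPrime := Ideal.IsPrime.comap _
  have hfp : f ∈ p := by
    show Ideal.Quotient.mk I f ∈ P
    rw [Ideal.Quotient.eq_zero_iff_mem.mpr (Ideal.mem_span_singleton_self f)]
    exact zero_mem _
  haveI := isRegularRing_iff.mp ‹IsRegularRing A› p
  have heq : Algebra.algebraMapSubmonoid (A ⧸ I) p.primeCompl = P.primeCompl := by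
    ext d
    obtain ⟨r, rfl⟩ := Ideal.Quotient.mk_surjective d
    constructor
    · rintro ⟨t, ht, hte⟩
      show Ideal.Quotient.mk I r ∉ P
      rw [← hte]
      exact ht
    · exact fun h => ⟨r, h, rfl⟩
  haveI : IsLocalization.AtPrime (Localization.AtPrime p ⧸ I.map (algebraMap A (Localization.AtPrime p))) P := by
    show IsLocalization P.primeCompl _
    rw [← heq]
    infer_instance
  let e := (IsLocalization.algEquiv P.primeCompl
    (Localization.AtPrime p ⧸ I.map (algebraMap A (Localization.AtPrime p))) (Localization.AtPrime P)).toRingEquiv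
  obtain ⟨d, hd⟩ := RegLocal.exists_nat_ringKrullDim (Localization.AtPrime p)
  have hx : algebraMap A (Localization.AtPrime p) f ∈ maximalIdeal (Localization.AtPrime p) :=
    (IsLocalization.AtPrime.to_map_mem_maximal_iff (Localization.AtPrime p) p f).mpr hfp
  have hx2 : algebraMap A (Localization.AtPrime p) f ∉ maximalIdeal (Localization.AtPrime p) ^ 2 := by
    intro h
    rw [← Localization.AtPrime.map_eq_maximalIdeal, ← Ideal.map_pow,
      IsLocalization.algebraMap_mem_map_algebraMap_iff p.primeCompl] at h
    obtain ⟨s, hs, hsf⟩ := h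
    have h1 := AdicDerLib.apply_mem_pow p D 1 _ hsf
    rw [pow_one, Derivation.leibniz, smul_eq_mul, smul_eq_mul] at h1
    have h2 : s * D f ∈ p := (Ideal.add_mem_iff_left _ (Ideal.mul_mem_right _ _ hfp)).mp h1
    exact hD p inferInstance hfp ((Ideal.IsPrime.mem_or_mem inferInstance h2).resolve_left hs)
  haveI := (RegLocal.quot_singleton (Localization.AtPrime p) hd hx hx2).1
  haveI : IsRegularLocalRing (Localization.AtPrime p ⧸ I.map (algebraMap A (Localization.AtPrime p))) :=
    IsRegularLocalRing.of_ringEquiv (Ideal.quotEquivOfEq (by rw [hI, Ideal.map_span, Set.image_singleton]))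
  exact IsRegularLocalRing.of_ringEquiv e

end Groth.Agent.RegLocalDer
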